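import Cfsg.Agent.H73.Bender.Transfer
import Cfsg.Agent.Coprime.SchurZassenhaus

/-!
The joint induction of S1221: in a faithful rank two action every `2`-element of a point stabiliser
commutes with the involutions at the point.  The reduction by a non-trivial odd subgroup centralising
these involutions and the involution of a second point: its normaliser is a smaller configuration.
-/

set_option autoImplicit false
set_option linter.style.haveILetI false

namespace Cfsg.Agent.H35.Bender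

open Subgroup MulAction
open Cfsg.Agent.H39
open Cfsg.Agent.H73.Bender
open scoped commutatorElement

universe u v

section Defs

variable {G : Type u} [Group G] {Ω : Type v} [MulAction G Ω]

/-- Every `2`-element of a point stabiliser commutes with the involutions at the point. -/
def TwoCentralAt (S : Subgroup G) (C : Set Ω) : Prop :=
  SE S C → RankTwo S → Faithful S C → ∀ c ∈ C, ∀ v ∈ ptStab S c, (∃ k, orderOf v = 2 ^ k) →
    ∀ t ∈ S, orderOf t = 2 → t • c = c → Commute v t

end Defs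

/-- `TwoCentralAt` for all groups of order below `n`. -/
def TwoCentralBelow (n : ℕ) : Prop :=
  ∀ (G' : Type u) [Group G'] [Finite G'] (Ω' : Type u) [MulAction G' Ω'] [Finite Ω']
    (T : Subgroup G') (C' : Set Ω'), Nat.card T < n → TwoCentralAt T C'

variable {G : Type u} [Group G] [Finite G] {Ω : Type u} [MulAction G Ω] [Finite Ω]
  {S : Subgroup G} {C : Set Ω}

/-- In a smaller configuration with a non-trivial kernel a `2`-element of a point stabiliser
commutes with the involutions at the point modulo the kernel. -/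
theorem commutator_mem_kernel_of_below {n : ℕ} (hbelow : TwoCentralBelow.{u} n) {T : Subgroup G}
    {C' : Set Ω} (hT : SE T C') (hr : RankTwo T) (hne : kernel T C' ≠ ⊥) (hcard : Nat.card T ≤ n)
    {c : Ω} (hc : c ∈ C') {v : G} (hv : v ∈ ptStab T c) (hv2 : ∃ k, orderOf v = 2 ^ k) {t : G}
    (ht : t ∈ T) (ht2 : orderOf t = 2) (htc : t • c = c) : ⁅v, t⁆ ∈ kernel T C' := by
  have hlt : Nat.card (Image hT) < n := by
    refine lt_of_lt_of_le ?_ hcard
    rw [← card_image_mul hT]
    exact lt_mul_of_one_lt_right Nat.card_pos ((Subgroup.one_lt_card_iff_ne_bot _).mpr hne)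
  obtain ⟨hvT, hvc⟩ := mem_ptStab.mp hv
  have h2 : ∃ k, orderOf (cPerm hT ⟨v, hvT⟩) = 2 ^ k := by
    obtain ⟨k, hk⟩ := hv2
    have hd : orderOf (cPerm hT ⟨v, hvT⟩) ∣ 2 ^ k :=
      hk ▸ ((orderOf_map_dvd (cPerm hT) (⟨v, hvT⟩ : T)).trans (Subgroup.orderOf_mk v hvT).dvd)
    obtain ⟨i, -, hi⟩ := (Nat.dvd_prime_pow Nat.prime_two).mp hd
    exact ⟨i, hi⟩
  have h := hbelow (Equiv.Perm C') C' (Image hT) Set.univ hlt (se_image hT) (rankTwo_image hT hr)
    (faithful_image hT) ⟨c, hc⟩ (Set.mem_univ _) (cPerm hT ⟨v, hvT⟩)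
    (mem_ptStab.mpr ⟨⟨_, rfl⟩, Subtype.ext hvc⟩) h2 (cPerm hT ⟨t, ht⟩) ⟨_, rfl⟩
    (orderOf_cPerm_inv hT ((Subgroup.orderOf_mk t ht).trans ht2)) (Subtype.ext htc)
  rw [← commutatorElement_eq_one_iff_commute, ← map_commutatorElement, cPerm_eq_one_iff] at h
  exact h

/-- A `2`-element at a point normalising a non-trivial odd subgroup, which is centralised by the
involutions at the point and by an involution of another point, commutes with the involutions at
the point. -/
theorem commute_of_normalizer (hbelow : TwoCentralBelow.{u} (Nat.card S)) (hS : SE S C)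
    (hr : RankTwo S) {c : Ω} (hc : c ∈ C)
    (hcomm : ∀ s ∈ S, orderOf s = 2 → s • c = c → ∀ t ∈ S, orderOf t = 2 → t • c = c → Commute s t)
    {U : Subgroup G} (hUS : U ≤ S) (hUodd : Odd (Nat.card U)) (hU1 : U ≠ ⊥)
    (hUt : ∀ t ∈ S, orderOf t = 2 → t • c = c → ∀ x ∈ U, Commute t x)
    {e : Ω} (he : e ∈ C) (hce : c ≠ e) {w : G} (hw : w ∈ S) (hw2 : orderOf w = 2) (hwe : w • e = e)
    (hwU : ∀ x ∈ U, Commute w x)
    {v : G} (hv : v ∈ ptStab S c) (hvU : v ∈ normalizer (U : Set G)) (hv2 : ∃ k, orderOf v = 2 ^ k)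
    {t : G} (ht : t ∈ S) (ht2 : orderOf t = 2) (htc : t • c = c) : Commute v t := by
  obtain ⟨hvS, hvc⟩ := mem_ptStab.mp hv
  have hnorm : ∀ s : G, (∀ x ∈ U, Commute s x) → s ∈ normalizer (U : Set G) := fun s hs =>
    Subgroup.centralizer_le_normalizer _ (mem_centralizer_iff.mpr fun x hx => (hs x hx).symm.eq)
  set T : Subgroup G := S ⊓ normalizer (U : Set G) with hT
  have htT : t ∈ T := ⟨ht, hnorm t (hUt t ht ht2 htc)⟩
  have hwT : w ∈ T := ⟨hw, hnorm w hwU⟩
  have hcT : c ∈ points T C := ⟨hc, t, htT, ht2, htc⟩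
  have heT : e ∈ points T C := ⟨he, w, hwT, hw2, hwe⟩
  have hline := hS.line (inf_le_left : T ≤ S) hcT heT hce
  obtain ⟨s, hs, hs2, hne, hts⟩ := hS.exists_commute_inv hr ht ht2
  have hsc : s • c = c := hS.fix_of_commute hs ht ht2 hts.symm hc htc
  have hrT : RankTwo T := ⟨t, htT, s, ⟨hs, hnorm s (hUt s hs hs2 hsc)⟩, ht2, hs2, hne, hts⟩
  have hUT : U ≤ T := le_inf hUS Subgroup.le_normalizer
  have hUK : U ≤ kernel T (points T C) := hline.le_kernel_of_odd hrT hUT hUodd inf_le_right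
  have hker := commutator_mem_kernel_of_below hbelow hline hrT (fun h => hU1 (eq_bot_mono hUK h))
    (Subgroup.card_le_of_le (inf_le_left : T ≤ S)) hcT (mem_ptStab.mpr ⟨⟨hvS, hvU⟩, hvc⟩) hv2
    htT ht2 htc
  -- a product of two commuting involutions in an odd subgroup is trivial
  have hvt : v⁻¹ • c = c := by rw [inv_smul_eq_iff, hvc]
  have ht' : Commute (v * t * v⁻¹) t := hcomm _ (conj_mem_of_mem hvS ht) (by rw [orderOf_conj, ht2])
    (by rw [mul_smul, mul_smul, hvt, htc, hvc]) t ht ht2 htc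
  have htt := mul_self_of_orderOf_eq_two ht2
  have hsq : ⁅v, t⁆ * ⁅v, t⁆ = 1 := by
    rw [commutatorElement_def, inv_eq_of_orderOf_eq_two ht2, ← mul_assoc,
      mul_assoc (v * t * v⁻¹) t, ← ht'.eq, ← mul_assoc, mul_assoc _ t t, htt, mul_one]
    calc v * t * v⁻¹ * (v * t * v⁻¹) = v * (t * t) * v⁻¹ := by group
      _ = 1 := by rw [htt, mul_one, mul_inv_cancel]
  have hodd : Odd (orderOf ⁅v, t⁆) := by
    rw [← Subgroup.orderOf_mk _ hker]
    exact hline.odd_kernel.of_dvd_nat (orderOf_dvd_natCard _)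
  rw [← commutatorElement_eq_one_iff_commute]
  by_contra h
  rw [orderOf_eq_two_of_mul_self hsq h] at hodd
  exact absurd hodd (by decide)

omit [Finite Ω] in
/-- `2`-elements of a point stabiliser commute with the involutions at the point as soon as those
of a subgroup covering it modulo a normal subgroup centralising these involutions do. -/
theorem commute_of_cover {c : Ω} {M N : Subgroup G}
    (hM : M ≤ ptStab S c) (hMn : ptStab S c ≤ normalizer (M : Set G))
    (hMc : ∀ m ∈ M, ∀ t ∈ S, orderOf t = 2 → t • c = c → Commute m t)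
    (hcover : ∀ h ∈ ptStab S c, ∃ m ∈ M, m⁻¹ * h ∈ N)
    (hN : ∀ n ∈ ptStab S c, n ∈ N → (∃ k, orderOf n = 2 ^ k) →
      ∀ t ∈ S, orderOf t = 2 → t • c = c → Commute n t)
    {v : G} (hv : v ∈ ptStab S c) (hv2 : ∃ k, orderOf v = 2 ^ k) {t : G} (ht : t ∈ S)
    (ht2 : orderOf t = 2) (htc : t • c = c) : Commute v t := by
  obtain ⟨m, hm, hmN⟩ := hcover v hv
  set n := m⁻¹ * v with hn
  have hnH : n ∈ ptStab S c := mul_mem (inv_mem (hM hm)) hv
  obtain ⟨a, o, ho, hao⟩ := Nat.exists_eq_two_pow_mul_odd (orderOf_pos n).ne'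
  have hq : ∀ i : ℕ, ∃ m' ∈ M, v ^ i = m' * n ^ i := by
    intro i
    induction i with
    | zero => exact ⟨1, one_mem _, by simp⟩
    | succ i ih =>
      obtain ⟨m', hm', h⟩ := ih
      refine ⟨m' * (n ^ i * m * (n ^ i)⁻¹),
        mul_mem hm' ((Subgroup.mem_normalizer_iff.mp (hMn (pow_mem hnH i)) m).mp hm), ?_⟩
      rw [pow_succ, h, pow_succ, hn]
      group
  have h2 : ∃ k, orderOf (n ^ o) = 2 ^ k := by
    refine ⟨a, ?_⟩
    rw [orderOf_pow' _ ho.pos.ne', hao, Nat.gcd_mul_left_left, Nat.mul_div_cancel _ ho.pos]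
  obtain ⟨m', hm', hvo⟩ := hq o
  have hco : Commute (v ^ o) t := hvo ▸
    (hMc m' hm' t ht ht2 htc).mul_left (hN _ (pow_mem hnH o) (pow_mem hmN o) h2 t ht ht2 htc)
  obtain ⟨k, hk⟩ := hv2
  obtain ⟨i, hi⟩ := exists_pow_eq_self_of_coprime (x := v) (n := o)
    (hk ▸ (ho.coprime_two_right.pow_right k))
  rw [← hi]
  exact hco.pow_left i

omit [Finite Ω] in
/-- Frattini: a coprime complement `U` in a normal subgroup `M ⊔ U` gives a covering by its
normaliser. -/
theorem exists_mem_normalizer_of_coprime {H M U : Subgroup G} (hU : U ≤ normalizer (M : Set G))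
    (hn : H ≤ normalizer ((M ⊔ U : Subgroup G) : Set G)) (hcop : (Nat.card U).Coprime (Nat.card M))
    (hsolv : Group.IsSolvable U) : ∀ h ∈ H, ∃ m ∈ M, m⁻¹ * h ∈ normalizer (U : Set G) := by
  intro h hh
  have hle : U.map (MulAut.conj h).toMonoidHom ≤ M ⊔ U := by
    rintro _ ⟨x, hx, rfl⟩
    exact (Subgroup.mem_normalizer_iff.mp (hn hh) x).mp (mem_sup_right hx)
  obtain ⟨m, hm, hmU⟩ := Coprime.exists_conj_of_le_sup hU hle
    (card_map_of_injective (MulAut.conj h).injective) hcop (Or.inl hsolv)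
  refine ⟨m, hm, Coprime.mem_normalizer_of_map_conj ?_⟩
  have e : (MulAut.conj (m⁻¹ * h)).toMonoidHom =
      (MulAut.conj m⁻¹).toMonoidHom.comp (MulAut.conj h).toMonoidHom :=
    MonoidHom.ext fun x => by simp [mul_assoc]
  rw [e, ← Subgroup.map_map, hmU, Subgroup.map_map]
  conv_rhs => rw [← Subgroup.map_id U]
  exact congrArg (fun f => Subgroup.map f U) (MonoidHom.ext fun x => by simp [mul_assoc])

end Cfsg.Agent.H35.Bender
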