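import Mathlib.GroupTheory.OrderOfElement
import Mathlib.Tactic.Group
import Mathlib.Algebra.BigOperators.Group.Finset.Sigma
import Mathlib.Data.Fintype.BigOperators
import Mathlib.GroupTheory.GroupAction.ConjAct
import Mathlib.Algebra.BigOperators.Group.Finset.Basic
import Mathlib.Algebra.Group.Subgroup.Pointwise

/-!
In a Frobenius group `Q⟨g⟩` acting on an abelian group of coprime order with `Q` fixed point free,
`g` fixes a non-trivial element.
-/

set_option autoImplicit false
set_option linter.style.haveILetI false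

namespace Cfsg.Agent.H35.Bender

open Subgroup

variable {G : Type*} [Group G] [Finite G]

/-- The complement of a Frobenius group with fixed point free kernel fixes a non-trivial element. -/
theorem exists_commute_of_frobenius {R Q : Subgroup G} (hRc : IsMulCommutative R) (hR1 : R ≠ ⊥)
    (hQR : Q ≤ normalizer (R : Set G)) (hQc : ∀ a ∈ Q, ∀ b ∈ Q, Commute a b)
    {g : G} (hgR : g ∈ normalizer (R : Set G)) (hgQ : g ∈ normalizer (Q : Set G))
    {p : ℕ} (hp : p.Prime) (hg : orderOf g = p) (hcop : (Nat.card Q).Coprime (Nat.card R))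
    (hgfix : ∀ q ∈ Q, Commute g q → q = 1)
    (hQfix : ∀ y ∈ R, (∀ q ∈ Q, Commute q y) → y = 1) :
    ∃ y ∈ R, y ≠ 1 ∧ Commute g y := by
  classical
  by_contra! hno
  refine hR1 (eq_bot_iff.mpr fun y₀ hy₀ => mem_bot.mpr ?_)
  letI : CommGroup R := { mul_comm := hRc.1.comm }
  set N : Subgroup G := normalizer (R : Set G) with hN
  have hmem : ∀ (h : N) (y : R), (h : G) * y * (h : G)⁻¹ ∈ R := fun h y =>
    (Subgroup.mem_normalizer_iff.mp h.2 _).mp y.2
  let c : N → (R →* R) := fun h => MonoidHom.mk' (fun y => ⟨(h : G) * y * (h : G)⁻¹, hmem h y⟩)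
    fun a b => Subtype.ext (by simp [mul_assoc])
  have hcv : ∀ (h : N) (y : R), ((c h y : R) : G) = h * y * (h : G)⁻¹ := fun h y => rfl
  have hcc : ∀ (a b : N) (y : R), c a (c b y) = c (a * b) y := fun a b y => Subtype.ext (by
    simp only [hcv, Subgroup.coe_mul]; group)
  have hc1 : ∀ y : R, c 1 y = y := fun y => Subtype.ext (by simp [hcv])
  set gn : N := ⟨g, hgR⟩ with hgn
  have hgp : gn ^ p = 1 := Subtype.ext (by simp [hgn, ← hg, pow_orderOf_eq_one])
  haveI : Fintype Q := Fintype.ofFinite Q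
  let qn : Q → N := fun q => ⟨q, hQR q.2⟩
  have hfix0 : ∀ z : R, c gn z = z → z = 1 := fun z hz => Subtype.ext (by
    by_contra h1
    refine hno z z.2 h1 ?_
    have h := congrArg Subtype.val hz
    rw [hcv, mul_inv_eq_iff_eq_mul] at h
    exact h)
  -- the norm along a conjugate of `g` is trivial
  have hnorm : ∀ (q : Q) (y : R), ∏ k ∈ Finset.range p, c (qn q * gn ^ k * (qn q)⁻¹) y = 1 := by
    intro q y
    set z := ∏ k ∈ Finset.range p, c (gn ^ k) (c (qn q)⁻¹ y) with hz
    have hzq : ∏ k ∈ Finset.range p, c (qn q * gn ^ k * (qn q)⁻¹) y = c (qn q) z := by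
      rw [hz, map_prod]
      exact Finset.prod_congr rfl fun k _ => by rw [hcc, hcc, mul_assoc]
    rw [hzq]
    suffices hz1 : z = 1 by rw [hz1, map_one]
    refine hfix0 z ?_
    obtain ⟨n, rfl⟩ : ∃ n, p = n + 1 := ⟨p - 1, by have := hp.pos; omega⟩
    rw [hz, map_prod]
    simp only [hcc, ← mul_assoc, ← pow_succ']
    conv_rhs => rw [Finset.prod_range_succ', pow_zero]
    rw [Finset.prod_range_succ, hgp]
  -- the terms of a non-trivial power of `g` run over the whole of `Q`
  have hrun : ∀ k ∈ Finset.range p, k ≠ 0 → ∀ y : R,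
      ∏ q : Q, c (qn q * gn ^ k * (qn q)⁻¹) y = 1 := by
    intro k hk hk0 y
    have hgk : g ^ k ∈ normalizer (Q : Set G) := pow_mem hgQ k
    let φ : Q → Q := fun q => ⟨(q : G) * (g ^ k * (q : G)⁻¹ * (g ^ k)⁻¹),
      Q.mul_mem q.2 ((Subgroup.mem_normalizer_iff.mp hgk _).mp (Q.inv_mem q.2))⟩
    have hφ : Function.Bijective φ := by
      rw [← Finite.injective_iff_bijective]
      intro a b hab
      have h := congrArg Subtype.val hab
      simp only [φ] at h
      -- `a⁻¹ * b` commutes with `g ^ k`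
      have h' : Commute (g ^ k) ((b : G)⁻¹ * a) := by
        have e1 : (b : G)⁻¹ * a = g ^ k * ((b : G)⁻¹ * a) * (g ^ k)⁻¹ := by
          have hca : Commute (g ^ k * (a : G) * (g ^ k)⁻¹) ((b : G)⁻¹ * a) :=
            hQc _ ((Subgroup.mem_normalizer_iff.mp hgk _).mp a.2) _ (Q.mul_mem (Q.inv_mem b.2) a.2)
          calc (b : G)⁻¹ * a
              = (b : G)⁻¹ * ((a : G) * (g ^ k * (a : G)⁻¹ * (g ^ k)⁻¹)) *
                  (g ^ k * (a : G) * (g ^ k)⁻¹) := by group
            _ = (b : G)⁻¹ * ((b : G) * (g ^ k * (b : G)⁻¹ * (g ^ k)⁻¹)) *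
                  (g ^ k * (a : G) * (g ^ k)⁻¹) := by rw [h]
            _ = g ^ k * ((b : G)⁻¹ * a) * (g ^ k)⁻¹ := by group
        exact (mul_inv_eq_iff_eq_mul.mp e1.symm)
      obtain ⟨i, hi⟩ := exists_pow_eq_self_of_coprime (x := g) (n := k) (by
        rw [hg]
        exact ((hp.coprime_iff_not_dvd).mpr fun hd => hk0 (Nat.eq_zero_of_dvd_of_lt hd
          (Finset.mem_range.mp hk))).symm)
      have h1 := hgfix _ (Q.mul_mem (Q.inv_mem b.2) a.2) (hi ▸ h'.pow_left i)
      exact Subtype.ext (inv_mul_eq_one.mp h1).symm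
    have e : ∀ q : Q, qn q * gn ^ k * (qn q)⁻¹ = qn (φ q) * gn ^ k := fun q => Subtype.ext (by
      simp only [qn, φ, hgn, Subgroup.coe_mul, Subgroup.coe_inv, SubmonoidClass.coe_pow]
      group)
    simp only [e, ← hcc]
    rw [Function.Bijective.prod_comp hφ fun q => c (qn q) (c (gn ^ k) y)]
    refine Subtype.ext (hQfix _ (Subtype.prop _) fun a ha => ?_)
    set w := ∏ q : Q, c (qn q) (c (gn ^ k) y) with hw
    have hw' : c (qn ⟨a, ha⟩) w = w := by
      rw [hw, map_prod]
      simp only [hcc]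
      refine Fintype.prod_equiv (Equiv.mulLeft (⟨a, ha⟩ : Q)) _ _ fun q => ?_
      rw [← mul_assoc]
      rfl
    have h := congrArg Subtype.val hw'
    rw [hcv, mul_inv_eq_iff_eq_mul] at h
    exact h
  have hsum : ∏ q : Q, ∏ k ∈ Finset.range p, c (qn q * gn ^ k * (qn q)⁻¹) (⟨y₀, hy₀⟩ : R) = 1 :=
    Finset.prod_eq_one fun q _ => hnorm q _
  rw [Finset.prod_comm, Finset.prod_eq_single 0 (fun k hk hk0 => hrun k hk hk0 _)
    (fun h => absurd (Finset.mem_range.mpr hp.pos) h)] at hsum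
  simp only [pow_zero, mul_one, mul_inv_cancel, hc1, Finset.prod_const, Finset.card_univ] at hsum
  rw [← Nat.card_eq_fintype_card] at hsum
  have h1 : orderOf (⟨y₀, hy₀⟩ : R) = 1 := Nat.eq_one_of_dvd_coprimes hcop
    (orderOf_dvd_of_pow_eq_one hsum) (orderOf_dvd_natCard _)
  exact congrArg Subtype.val (orderOf_eq_one_iff.mp h1)

end Cfsg.Agent.H35.Bender
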