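import Cfsg.Agent.Cores.SE.CoreSemiregular
import Cfsg.Agent.H35.Bender.FrobFixed

/-!
An element of prime order of a pair stabiliser fixing a non-trivial element of the abelian odd normal
subgroup `R` of the point stabiliser centralises at most one involution at the point: otherwise its
centraliser is a rank two line whose odd core contains the fixed part of `R`.
-/

set_option autoImplicit false
set_option linter.style.haveILetI false

namespace Cfsg.Agent.H35.Bender

open Subgroup MulAction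
open Cfsg.Agent.H39
open Cfsg.Agent.H73.Bender

universe u v

variable {G : Type u} [Group G] [Finite G] {Ω : Type v} [MulAction G Ω] [Finite Ω]
  {S : Subgroup G} {C : Set Ω}

/-- An element of prime order of a pair stabiliser commuting with an involution at one of the points
commutes with an involution at another point. -/
theorem exists_inv_away (hS : SE S C) (hF : Faithful S C) (hG : Good S C) {c x : Ω} (hc : c ∈ C)
    (hx : x ∈ C) (hxc : x ≠ c) {q : ℕ} [Fact q.Prime] {g : G} (hg : g ∈ pair S c x)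
    (hgq : orderOf g = q) {t : G} (ht : t ∈ S) (ht2 : orderOf t = 2) (htc : t • c = c)
    (hgt : Commute g t) :
    ∃ f ∈ C, f ≠ c ∧ ∃ i ∈ S, orderOf i = 2 ∧ i • f = f ∧ Commute i g := by
  obtain ⟨hgS, hgc, hgx⟩ := mem_pair.mp hg
  have hPq : IsPGroup q (zpowers g) := IsPGroup.of_card (n := 1) (by
    rw [Nat.card_zpowers, hgq, pow_one])
  by_cases hdvd : q ∣ invBar S C c
  · have hfix : ∀ {z : Ω}, g • z = z → ∀ p ∈ zpowers g, p • z = z := fun {z} hz p hp =>
      mem_stabilizer_iff.mp ((zpowers_le.mpr (mem_stabilizer_iff.mpr hz)) hp)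
    obtain ⟨i, hi, hi2, f, hf, hfc, hif, -, hig⟩ := Cores.SE.exists_inv_centralizing hS hF hG hc
      hdvd (zpowers_le.mpr hgS) hPq hc hx (hS.smul_mem ht hx) (Ne.symm hxc)
      (fun e => hxc (MulAction.injective t (e.trans htc.symm)))
      (fun e => hxc (hS.fix_unique ht ht2 hx hc e htc))
      (hfix hgc) (hfix hgx) (hfix (by rw [← mul_smul, hgt.eq, mul_smul, hgx])) c
    exact ⟨f, hf, hfc, i, hi, hi2, hif, hig g (mem_zpowers g)⟩
  · let J := {i : G // i ∈ S ∧ orderOf i = 2 ∧ i • x = x}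
    have hact : ∀ p : zpowers g, ∀ i : J,
        (p : G) * i * (p : G)⁻¹ ∈ S ∧ orderOf ((p : G) * i * (p : G)⁻¹) = 2 ∧
          ((p : G) * i * (p : G)⁻¹) • x = x := by
      rintro ⟨p, hp⟩ ⟨i, hi, hi2, hix⟩
      have hpx : p • x = x :=
        (zpowers_le.mpr (mem_stabilizer_iff.mpr hgx) : zpowers g ≤ stabilizer G x) hp
      refine ⟨conj_mem_of_mem (zpowers_le.mpr hgS hp) hi, by rw [orderOf_conj, hi2], ?_⟩
      have h' := conj_smul_of_smul (g := p) hix
      rwa [hpx] at h'
    letI : MulAction (zpowers g) J :=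
      { smul := fun p i => ⟨(p : G) * i * (p : G)⁻¹, hact p i⟩
        one_smul := fun i => Subtype.ext
          (show ((1 : zpowers g) : G) * i * ((1 : zpowers g) : G)⁻¹ = i by simp)
        mul_smul := fun p p' i => Subtype.ext
          (show ((p * p' : zpowers g) : G) * i * ((p * p' : zpowers g) : G)⁻¹ =
            p * (p' * i * (p' : G)⁻¹) * (p : G)⁻¹ by simp [mul_assoc]) }
    obtain ⟨⟨i, hi, hi2, hix⟩, hfx⟩ := hPq.nonempty_fixed_point_of_prime_not_dvd_card J (by
      rwa [hS.card_inv_at_eq hx hc, ← Cores.SE.invBar_eq_card hF])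
    have he : g * i * g⁻¹ = i := congrArg Subtype.val (hfx ⟨g, mem_zpowers g⟩)
    exact ⟨x, hx, hxc, i, hi, hi2, hix, (show Commute g i from mul_inv_eq_iff_eq_mul.mp he).symm⟩

/-- An element of prime order of a pair stabiliser with a non-trivial fixed element in `R` commutes
with at most one involution at the point. -/
theorem inv_unique_of_fixed (hS : SE S C) (h2 : RankTwo S) (hF : Faithful S C) (hG : Good S C)
    (hIH : Cores.SE.CoreBelow S Ω) {c x : Ω} (hc : c ∈ C) (hx : x ∈ C) (hxc : x ≠ c)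
    {R : Subgroup G} (hR : R ≤ ptStab S c) (hRodd : Odd (Nat.card R))
    (hRn : ptStab S c ≤ normalizer (R : Set G)) (hRc : IsMulCommutative R) {g : G}
    (hg : g ∈ pair S c x) (hgp : (orderOf g).Prime) {y : G} (hy : y ∈ R) (hy1 : y ≠ 1)
    (hgy : Commute g y) {s t : G} (hs : s ∈ S) (hs2 : orderOf s = 2) (hsc : s • c = c)
    (hgs : Commute g s) (ht : t ∈ S) (ht2 : orderOf t = 2) (htc : t • c = c)
    (hgt : Commute g t) : s = t := by
  by_contra hst
  haveI : Fact (orderOf g).Prime := ⟨hgp⟩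
  have hR1 : R ≠ ⊥ := fun h => hy1 (mem_bot.mp (h ▸ hy))
  obtain ⟨hgS, hgc, -⟩ := mem_pair.mp hg
  have hcomm : Commute s t := Cores.SE.commute_involutions hS h2 hF hG hc hR hRodd hRn hR1 hs ht
    hs2 ht2 hsc htc
  obtain ⟨f, hf, hfc, i, hi, hi2, hif, hig⟩ :=
    exists_inv_away hS hF hG hc hx hxc hg rfl ht ht2 htc hgt
  set T : Subgroup G := S ⊓ centralizer {g} with hT
  have hTS : T ≤ S := inf_le_left
  have hmemT : ∀ k : G, k ∈ S → Commute k g → k ∈ T := fun k hk hkg =>
    ⟨hk, mem_centralizer_singleton_iff.mpr hkg.eq⟩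
  have hg1 : g ≠ 1 := fun h => hgp.ne_one (by rw [h, orderOf_one])
  have hcard : Nat.card T < Nat.card S := by
    by_contra hle
    have hTeq : T = S := Subgroup.eq_of_le_of_card_ge hTS (not_lt.mp hle)
    refine hg1 ((mem_bot (G := G)).mp ?_)
    rw [← (hF : kernel S C = ⊥)]
    refine mem_kernel.mpr ⟨hgS, fun z hz => ?_⟩
    obtain ⟨k, hk, rfl⟩ := hS.trans hc hz
    have hkg : k * g = g * k := mem_centralizer_singleton_iff.mp (hTeq.symm ▸ hk : k ∈ T).2
    rw [← mul_smul, ← hkg, mul_smul, hgc]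
  have hsT := hmemT s hs hgs.symm
  have htT := hmemT t ht hgt.symm
  have hcL : c ∈ points T C := ⟨hc, t, htT, ht2, htc⟩
  have hfL : f ∈ points T C := ⟨hf, i, hmemT i hi hig, hi2, hif⟩
  have hline := hS.line hTS hcL hfL (Ne.symm hfc)
  have hT2 : RankTwo T := ⟨s, hsT, t, htT, hs2, ht2, hst, hcomm⟩
  set R' : Subgroup G := R ⊓ centralizer {g} with hR'
  have hR'le : R' ≤ ptStab T c := fun r hr => mem_ptStab.mpr
    ⟨hmemT r (mem_ptStab.mp (hR hr.1)).1 (mem_centralizer_singleton_iff.mp hr.2),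
      (mem_ptStab.mp (hR hr.1)).2⟩
  have hR'n : ptStab T c ≤ normalizer (R' : Set G) := fun k hk => by
    obtain ⟨hkT, hkc⟩ := mem_ptStab.mp hk
    obtain ⟨hkS, hkg⟩ := Subgroup.mem_inf.mp hkT
    have hkR := hRn (mem_ptStab.mpr ⟨hkS, hkc⟩)
    refine Subgroup.mem_normalizer_iff.mpr fun r => ?_
    rw [hR', Subgroup.mem_inf, Subgroup.mem_inf, ← Subgroup.mem_normalizer_iff.mp hkR r]
    refine and_congr Iff.rfl ⟨fun h => mul_mem (mul_mem hkg h) (inv_mem hkg), fun h => ?_⟩
    have h' := mul_mem (mul_mem (inv_mem hkg) h) hkg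
    simpa [mul_assoc] using h'
  have hker := hIH T (points T C) hTS hcard hline hT2 (hG.subline hTS (points_subset T C)) c hcL R'
    hR'le (hRodd.of_dvd_nat (Subgroup.card_dvd_of_le inf_le_left)) hR'n
  have hyf : y • f = f :=
    (mem_kernel.mp (hker ⟨hy, mem_centralizer_singleton_iff.mpr hgy.eq.symm⟩)).2 f hfL
  refine hy1 (Cores.SE.semiregular_centStab hS h2 hF hG hIH hc hR hRodd hRn hR1
    (Cores.SE.mem_centStab.mpr ⟨mem_ptStab.mp (hR hy), fun r hr => ?_⟩) hf hfc hyf)
  exact congrArg Subtype.val (hRc.1.comm ⟨r, hr⟩ ⟨y, hy⟩)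

/-- A Galois element of prime order: normalising an abelian fixed point free group without
centralising it, it commutes with at most one involution at the point. -/
theorem inv_unique_of_galois (hS : SE S C) (h2 : RankTwo S) (hF : Faithful S C) (hG : Good S C)
    (hIH : Cores.SE.CoreBelow S Ω) {c x : Ω} (hc : c ∈ C) (hx : x ∈ C) (hxc : x ≠ c)
    {R : Subgroup G} (hR : R ≤ ptStab S c) (hRodd : Odd (Nat.card R))
    (hRn : ptStab S c ≤ normalizer (R : Set G)) (hRc : IsMulCommutative R) (hR1 : R ≠ ⊥)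
    {Q : Subgroup G} (hQ : Q ≤ ptStab S c) (hQc : ∀ a ∈ Q, ∀ b ∈ Q, Commute a b)
    (hcop : (Nat.card Q).Coprime (Nat.card R))
    (hQfix : ∀ y ∈ R, (∀ q ∈ Q, Commute q y) → y = 1)
    {g : G} (hg : g ∈ pair S c x) (hgp : (orderOf g).Prime) (hgQ : g ∈ normalizer (Q : Set G))
    (hgfix : ∀ q ∈ Q, Commute g q → q = 1) {s t : G} (hs : s ∈ S) (hs2 : orderOf s = 2)
    (hsc : s • c = c) (hgs : Commute g s) (ht : t ∈ S) (ht2 : orderOf t = 2) (htc : t • c = c)
    (hgt : Commute g t) : s = t := by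
  obtain ⟨hgS, hgc, -⟩ := mem_pair.mp hg
  obtain ⟨y, hy, hy1, hgy⟩ := exists_commute_of_frobenius hRc hR1 (hQ.trans hRn) hQc
    (hRn (mem_ptStab.mpr ⟨hgS, hgc⟩)) hgQ hgp rfl hcop hgfix hQfix
  exact inv_unique_of_fixed hS h2 hF hG hIH hc hx hxc hR hRodd hRn hRc hg hgp hy hy1 hgy
    hs hs2 hsc hgs ht ht2 htc hgt

end Cfsg.Agent.H35.Bender
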