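import Cfsg.Agent.Cores.SE.CoreNilpotent
import Cfsg.Agent.Cores.SE.CoreElement
import Cfsg.Agent.H53.SE.Cover
import Cfsg.Agent.Cores.SE.Glue
import Cfsg.Agent.OddOrder.BG3.FixLine
import Cfsg.Agent.Cores.Fitting
import Cfsg.Agent.Cores.PCore
import Cfsg.Agent.Coprime.Action
import Cfsg.Agent.H35.Bender.GaloisPrime
import Cfsg.Agent.S0044
import Cfsg.Agent.S0009
import Cfsg.Agent.S0205

/-!
Without any assumption on the `2`-elements: the centraliser `K` of the involutions at a point is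
`C_H(R)` times its part `L₀` in the stabiliser of a second point, and `L₀` has order prime to
`C_H(R)`.
-/

set_option autoImplicit false
set_option linter.style.haveILetI false
set_option maxHeartbeats 800000

namespace Cfsg.Agent.H35.Bender

open Subgroup MulAction
open scoped commutatorElement
open Cfsg.Agent.H39
open Cfsg.Agent.H73.Bender
open Cfsg.Agent.Cores.SE

universe u v

variable {G : Type u} [Group G] [Finite G] {Ω : Type v} [MulAction G Ω] [Finite Ω]
  {S : Subgroup G} {C : Set Ω}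

/-- The centraliser of `R` in the point stabiliser lies in that of the involutions at the point. -/
theorem centStab_le_centInv (hS : SE S C) (h2 : RankTwo S) (hF : Faithful S C) (hG : Good S C)
    {c : Ω} (hc : c ∈ C) {R : Subgroup G} (hR : R ≤ ptStab S c)
    (hRn : ptStab S c ≤ normalizer (R : Set G)) (hR1 : R ≠ ⊥) :
    centStab S c R ≤ ptStab S c ⊓ centralizer (invGen S c : Set G) := fun g hg =>
  ⟨hg.1, mem_centralizer_iff.mpr fun e he => by
    have hle : invGen S c ≤ centralizer ({g} : Set G) :=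
      (Subgroup.closure_le _).mpr fun t ht => mem_centralizer_singleton_iff.mpr
        (commute_of_mem_centStab hS h2 hF hG hc hR hRn hR1 ht.1 ht.2.1 ht.2.2 hg).symm.eq
    exact mem_centralizer_singleton_iff.mp (hle he)⟩

/-- `C_H(invGen) = C_H(R) (C_H(invGen) ∩ H_z)`. -/
theorem exists_centStab_mul_pairInv (hS : SE S C) (h2 : RankTwo S) (hF : Faithful S C) (hG : Good S C)
    (hIH : CoreBelow S Ω) {c z : Ω} (hc : c ∈ C) (hz : z ∈ C) (hcz : c ≠ z) {R : Subgroup G}
    (hR : R ≤ ptStab S c) (hRodd : Odd (Nat.card R)) (hRn : ptStab S c ≤ normalizer (R : Set G))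
    (hR1 : R ≠ ⊥) (hRab : IsMulCommutative R)
    (hmin : ∀ R' : Subgroup G, R' ≤ R → ptStab S c ≤ normalizer (R' : Set G) → R' ≠ ⊥ → R' = R)
    {p : ℕ} [Fact p.Prime] (hdvd : p ∣ invBar S C c) :
    ∀ k ∈ ptStab S c ⊓ centralizer (invGen S c : Set G), ∃ a ∈ centStab S c R,
      ∃ d ∈ pair S c z ⊓ centralizer (invGen S c : Set G), k = a * d := by
  classical
  set H : Subgroup G := ptStab S c with hHdef
  set K : Subgroup G := H ⊓ centralizer (invGen S c : Set G) with hKdef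
  set C₀ : Subgroup G := centStab S c R with hC₀
  have hKH : K ≤ H := inf_le_left
  have hC₀H : C₀ ≤ H := inf_le_left
  have hC₀K : C₀ ≤ K := centStab_le_centInv hS h2 hF hG hc hR hRn hR1
  have hC₀n : H ≤ normalizer (C₀ : Set G) := ptStab_le_normalizer_centStab hRn
  have hKn : H ≤ normalizer (K : Set G) := ptStab_le_normalizer_centInv c
  obtain ⟨x, hxp, hxH, hxz, honly, -, hpK⟩ :=
    exists_fpf_element hS h2 hF hG hIH hc hz hcz hR hRodd hRn hR1 hRab hdvd
  have hp : p.Prime := Fact.out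
  obtain ⟨T, hTsyl, hTC, -, -⟩ := exists_normal_twoSylow hS h2 hF hG hIH hc hz hcz hR hRodd hRn hR1
    hRab hp hxp hxH hxz honly hpK
  -- the prime of `R`
  obtain ⟨r, hr, hrd⟩ := Nat.exists_prime_and_dvd (fun h => hR1 (Subgroup.card_eq_one.mp h))
  haveI : Fact r.Prime := ⟨hr⟩
  letI : CommGroup R := { (inferInstance : Group R) with mul_comm := hRab.is_comm.comm }
  have hexp : ∀ g ∈ R, g ^ r = 1 := by
    set R' : Subgroup G := ((powMonoidHom r : R →* R).ker).map R.subtype with hR'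
    have hmem : ∀ g, g ∈ R' ↔ g ∈ R ∧ g ^ r = 1 := fun g => by
      constructor
      · rintro ⟨⟨a, ha⟩, hk, rfl⟩
        exact ⟨ha, congrArg Subtype.val hk⟩
      · rintro ⟨hg, hg'⟩
        exact ⟨⟨g, hg⟩, Subtype.ext hg', rfl⟩
    have hne : R' ≠ ⊥ := by
      obtain ⟨a, ha⟩ := exists_prime_orderOf_dvd_card' (G := R) r hrd
      intro h
      have : (a : G) ∈ R' := (hmem _).mpr ⟨a.2, by
        rw [← ha, ← Subgroup.orderOf_coe, pow_orderOf_eq_one]⟩
      rw [h, mem_bot, ← orderOf_eq_one_iff, Subgroup.orderOf_coe, ha] at this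
      exact hr.ne_one this
    have hn' : H ≤ normalizer (R' : Set G) := fun g hg => Subgroup.mem_normalizer_iff.mpr fun a => by
      rw [hmem, hmem, ← Subgroup.mem_normalizer_iff.mp (hRn hg) a, conj_pow, conj_eq_one_iff]
    intro g hg
    have heq := hmin R' (map_subtype_le _) hn' hne
    exact ((hmem g).mp (heq.symm ▸ hg)).2
  have hRC : R ≤ C₀ := fun g hg => mem_centStab.mpr ⟨mem_ptStab.mp (hR hg),
    fun s hs => congrArg Subtype.val (hRab.is_comm.comm ⟨s, hs⟩ ⟨g, hg⟩)⟩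
  have hpr : r ≠ p := by
    rintro rfl
    exact hpK (hrd.trans (card_dvd_of_le (hRC.trans hC₀K)))
  have hxpair : x ∈ pair S c z :=
    mem_pair.mpr ⟨(mem_ptStab.mp hxH).1, (mem_ptStab.mp hxH).2, hxz⟩
  have hxR : R ⊓ centralizer ({x} : Set G) = ⊥ := by
    refine eq_bot_iff.mpr fun g hg => mem_bot.mpr ?_
    exact H53.SE.eq_one_of_commute hS h2 hF hG hIH hc hz hcz hR hRodd hRn hR1 hRab hdvd hxpair hxp
      hg.1 (mem_centralizer_singleton_iff.mp hg.2).symm
  -- the quotient by `C_H(R)` and the image of `K`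
  set N : Subgroup H := C₀.subgroupOf H with hN
  haveI hNn : N.Normal := Subgroup.normal_subgroupOf_of_le_normalizer hC₀n
  set f := QuotientGroup.mk' N with hf
  have hfs : Function.Surjective f := QuotientGroup.mk'_surjective N
  haveI : (K.subgroupOf H).Normal := Subgroup.normal_subgroupOf_of_le_normalizer hKn
  set Kb : Subgroup (H ⧸ N) := (K.subgroupOf H).map f with hKb
  haveI hKbn : Kb.Normal := Subgroup.Normal.map inferInstance f hfs
  let g : K →* Kb := (f.comp (Subgroup.inclusion hKH)).codRestrict Kb fun a =>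
    ⟨Subgroup.inclusion hKH a, mem_subgroupOf.mpr a.2, rfl⟩
  have hgs : Function.Surjective g := by
    rintro ⟨_, b, hb, rfl⟩
    exact ⟨⟨b, mem_subgroupOf.mp hb⟩, Subtype.ext rfl⟩
  have hg1 : ∀ a : K, g a = 1 ↔ (a : G) ∈ C₀ := fun a => by
    rw [Subtype.ext_iff]
    exact (QuotientGroup.eq_one_iff (Subgroup.inclusion hKH a)).trans mem_subgroupOf
  have hKbcard : Nat.card Kb ∣ Nat.card K := Subgroup.card_dvd_of_surjective g hgs
  have hpKb : ¬ p ∣ Nat.card Kb := fun h => hpK (h.trans hKbcard)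
  have hodd : Odd (Nat.card Kb) := by
    rw [← Nat.not_even_iff_odd, even_iff_two_dvd]
    intro h2d
    haveI : Fact (Nat.Prime 2) := ⟨Nat.prime_two⟩
    obtain ⟨P, hP⟩ := hTsyl.exists_sylow
    have hbot : ((P.mapSurjective hgs : Sylow 2 Kb) : Subgroup Kb) = ⊥ := by
      rw [Sylow.coe_mapSurjective, Subgroup.map_eq_bot_iff]
      exact fun a ha => MonoidHom.mem_ker.mpr ((hg1 a).mpr (hTC (hP.le ⟨a, ha, rfl⟩)))
    have hcard := (P.mapSurjective hgs).card_eq_multiplicity
    rw [hbot, Subgroup.card_bot] at hcard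
    have hpos := Nat.Prime.factorization_pos_of_dvd Nat.prime_two Nat.card_pos.ne' h2d
    exact absurd hcard.symm (Nat.one_lt_two_pow hpos.ne').ne'
  haveI : Group.IsSolvable Kb := Cfsg.Agent.S0205.result hodd
  -- `O_r(H / C_H(R))` is trivial
  have hOr : Cfsg.pCore r (H ⧸ N) = ⊥ := by
    refine eq_bot_iff.mpr fun y hy => mem_bot.mpr ?_
    set M : Subgroup H := (Cfsg.pCore r (H ⧸ N)).comap f with hM
    haveI : M.Normal := inferInstance
    set MG : Subgroup G := M.map H.subtype with hMG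
    have hMGn : H ≤ normalizer (MG : Set G) := fun g hg =>
      le_normalizer_map H.subtype ⟨⟨g, hg⟩, by rw [normalizer_eq_top]; trivial, rfl⟩
    let φ : H →* MulAut R := (Subgroup.normalizerMonoidHom R).comp (Subgroup.inclusion hRn)
    have hφN : N ≤ φ.ker := fun n hn => MonoidHom.mem_ker.mpr (MulEquiv.ext fun a => Subtype.ext
      (show (n : G) * a * (n : G)⁻¹ = a by
        rw [← ((mem_centStab.mp (mem_subgroupOf.mp hn)).2 a a.2).eq, mul_inv_cancel_right]))
    have hpg : IsPGroup r (M.map φ) := by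
      rw [show φ = (QuotientGroup.lift N φ hφN).comp f from rfl, ← Subgroup.map_map]
      exact (Cores.pCore_isPGroup.to_le (map_comap_le _ _)).map _
    obtain ⟨a, hafix, ha1⟩ := hpg.exists_fixed_point_of_prime_dvd_card_of_fixed_point R hrd
      (a := 1) (fun m => map_one (m : MulAut R))
    set R' : Subgroup G := R ⊓ centralizer (MG : Set G) with hR'
    have haR' : (a : G) ∈ R' := by
      refine ⟨a.2, mem_centralizer_iff.mpr ?_⟩
      rintro _ ⟨m, hm, rfl⟩
      have e : (m : G) * a * (m : G)⁻¹ = a :=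
        congrArg Subtype.val (hafix ⟨φ m, mem_map_of_mem φ hm⟩)
      exact mul_inv_eq_iff_eq_mul.mp e
    have hR'ne : R' ≠ ⊥ := fun h => ha1 (Subtype.ext (mem_bot.mp (h ▸ haR'))).symm
    have hR'n : H ≤ normalizer (R' : Set G) := by
      have key : ∀ g ∈ H, ∀ b ∈ R', g * b * g⁻¹ ∈ R' := by
        intro g hg b hb
        refine ⟨(Subgroup.mem_normalizer_iff.mp (hRn hg) b).mp hb.1,
          mem_centralizer_iff.mpr fun m hm => ?_⟩
        have h := mem_centralizer_iff.mp hb.2 _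
          ((Subgroup.mem_normalizer_iff''.mp (hMGn hg) m).mp hm)
        calc m * (g * b * g⁻¹) = g * (g⁻¹ * m * g * b) * g⁻¹ := by group
          _ = g * b * g⁻¹ * m := by rw [h]; group
      exact fun g hg => Subgroup.mem_normalizer_iff.mpr fun b => ⟨key g hg b, fun h => by
        simpa [mul_assoc] using key g⁻¹ (inv_mem hg) _ h⟩
    have heq := hmin R' inf_le_left hR'n hR'ne
    obtain ⟨m, rfl⟩ := hfs y
    exact (QuotientGroup.eq_one_iff m).mpr (mem_subgroupOf.mpr (mem_centStab.mpr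
      ⟨mem_ptStab.mp m.2, fun b hb => ((mem_centralizer_iff.mp (heq.symm ▸ hb : b ∈ R').2 _
        (mem_map_of_mem H.subtype (hy : m ∈ M))).symm : _)⟩))
  set xb : H ⧸ N := f ⟨x, hxH⟩ with hxb
  -- `x` centralises each `O_s` of the image of `K`
  have hcore : ∀ s : ℕ, s.Prime → ∀ y ∈ Cfsg.pCore s Kb, Commute (y : H ⧸ N) xb := by
    intro s hs y hy
    haveI := Fact.mk hs
    have htriv : ¬ s ∣ Nat.card Kb → Commute (y : H ⧸ N) xb := fun hns => by
      obtain ⟨n, hn⟩ := IsPGroup.iff_orderOf.mp Cores.pCore_isPGroup (⟨y, hy⟩ : Cfsg.pCore s Kb)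
      rw [Subgroup.orderOf_mk] at hn
      have hy1 : y = 1 := orderOf_eq_one_iff.mp (Nat.eq_one_of_dvd_coprimes
        ((hs.coprime_iff_not_dvd.mpr hns).pow_left n) hn.dvd (orderOf_dvd_natCard y))
      rw [hy1]
      exact Commute.one_left _
    by_cases hsr : s = r
    · subst s
      have h := Cores.map_pCore_le_of_normal (p := r) Kb (mem_map_of_mem Kb.subtype hy)
      rw [hOr, mem_bot] at h
      exact (show (y : H ⧸ N) = 1 from h) ▸ Commute.one_left _
    by_cases hsp : s = p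
    · subst hsp; exact htriv hpKb
    by_cases hs2 : s = 2
    · subst hs2; exact htriv (fun hd => (Nat.not_even_iff_odd.mpr hodd) (even_iff_two_dvd.mpr hd))
    have hcop : (Nat.card (zpowers x)).Coprime (Nat.card K) := by
      rw [Nat.card_zpowers, hxp]
      exact hp.coprime_iff_not_dvd.mpr hpK
    obtain ⟨P, hP⟩ := Coprime.exists_invariant_sylow (A := zpowers x) (K := K)
      (zpowers_le.mpr (hKn hxH)) hcop (Or.inl (Coprime.isSolvable_zpowers x)) s
    obtain ⟨q, hq, rfl⟩ := H53.SE.pCore_le_map_sylow hgs P hy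
    set Q : Subgroup G := (P : Subgroup K).map K.subtype with hQ
    have hQH : Q ≤ H := (map_subtype_le _).trans hKH
    obtain ⟨n, hn⟩ := IsPGroup.iff_card.mp (show IsPGroup s Q from P.2.map _)
    have hnd : ∀ l : ℕ, l.Prime → l ≠ s → ¬ l ∣ Nat.card Q := fun l hl hne hd =>
      hne ((Nat.prime_dvd_prime_iff_eq hl hs).mp (hl.dvd_of_dvd_pow (hn ▸ hd)))
    have hle := OddOrder.BG3.commutator_le_centralizer_odd (l := r) (r := p) R hRab hexp
      (by rw [← hxp, pow_orderOf_eq_one]) hpr (hRn hxH) hxR Q (hQH.trans hRn)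
      (hP (mem_zpowers x)) (hnd r hr (Ne.symm hsr)) (hnd p hp (Ne.symm hsp))
      (hn ▸ (hs.odd_of_ne_two hs2).pow)
    have hmem : (⁅(⟨x, hxH⟩ : H), Subgroup.inclusion hKH q⁆ : H) ∈ N :=
      mem_subgroupOf.mpr (mem_centStab.mpr
        ⟨mem_ptStab.mp (⁅(⟨x, hxH⟩ : H), Subgroup.inclusion hKH q⁆ : H).2, fun b hb =>
          mem_centralizer_iff.mp (hle (commutator_mem_commutator (mem_zpowers x)
            ⟨q, hq, rfl⟩)) b hb⟩)
    have h1 : f ⁅(⟨x, hxH⟩ : H), Subgroup.inclusion hKH q⁆ = 1 :=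
      (QuotientGroup.eq_one_iff _).mpr hmem
    rw [map_commutatorElement, commutatorElement_eq_one_iff_mul_comm] at h1
    exact h1.symm
  have hfit : ∀ y ∈ Cfsg.fittingSubgroup Kb, Commute (y : H ⧸ N) xb := by
    have hle : Cfsg.fittingSubgroup Kb ≤ (centralizer ({xb} : Set (H ⧸ N))).comap Kb.subtype := by
      rw [Cfsg.Agent.S0009.result]
      exact iSup_le fun s y hy => mem_centralizer_singleton_iff.mpr (hcore s s.2 y hy).eq
    exact fun y hy => mem_centralizer_singleton_iff.mp (hle hy)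
  have hxbp : xb ^ p = 1 := by
    rw [hxb, ← map_pow, show (⟨x, hxH⟩ : H) ^ p = 1 from Subtype.ext
      (show x ^ p = 1 by rw [← hxp, pow_orderOf_eq_one]), map_one]
  have hcent : ∀ k : Kb, Commute (k : H ⧸ N) xb := by
    intro k
    set φk : Kb := ⟨xb * k * xb⁻¹, hKbn.conj_mem _ k.2 xb⟩ with hφk
    set a : Kb := k⁻¹ * φk with ha
    have haC : a ∈ centralizer (Cfsg.fittingSubgroup Kb : Set Kb) := by
      refine mem_centralizer_iff.mpr fun y hy => ?_
      have hy' : k * y * k⁻¹ ∈ Cfsg.fittingSubgroup Kb := Subgroup.Normal.conj_mem inferInstance y hy k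
      have e1 : xb * (y : H ⧸ N) * xb⁻¹ = y := by rw [← (hfit y hy).eq, mul_inv_cancel_right]
      have e2 : xb * ((k : H ⧸ N) * y * (k : H ⧸ N)⁻¹) * xb⁻¹ = k * y * (k : H ⧸ N)⁻¹ := by
        have h := (hfit _ hy').eq
        simp only [Subgroup.coe_mul, Subgroup.coe_inv] at h
        rw [← h, mul_inv_cancel_right]
      refine Subtype.ext ?_
      simp only [ha, hφk, Subgroup.coe_mul, Subgroup.coe_inv]
      calc (y : H ⧸ N) * ((k : H ⧸ N)⁻¹ * (xb * k * xb⁻¹))
          = (k : H ⧸ N)⁻¹ * (k * y * (k : H ⧸ N)⁻¹) * (xb * k * xb⁻¹) := by group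
        _ = (k : H ⧸ N)⁻¹ * (xb * ((k : H ⧸ N) * y * (k : H ⧸ N)⁻¹) * xb⁻¹) * (xb * k * xb⁻¹) := by
              rw [e2]
        _ = (k : H ⧸ N)⁻¹ * (xb * k * xb⁻¹) * (xb * y * xb⁻¹) := by group
        _ = (k : H ⧸ N)⁻¹ * (xb * k * xb⁻¹) * y := by rw [e1]
    have hax : Commute (a : H ⧸ N) xb := hfit a (Cfsg.Agent.S0044.result haC)
    have hai : xb * (k : H ⧸ N) * xb⁻¹ = k * a := by
      simp [ha, hφk]
    have hpow : ∀ i : ℕ, xb ^ i * (k : H ⧸ N) * (xb ^ i)⁻¹ = k * (a : H ⧸ N) ^ i := by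
      intro i
      induction i with
      | zero => simp
      | succ i ih =>
        have e : xb * (a : H ⧸ N) ^ i * xb⁻¹ = (a : H ⧸ N) ^ i := by
          rw [← (hax.pow_left i).eq, mul_inv_cancel_right]
        calc xb ^ (i + 1) * (k : H ⧸ N) * (xb ^ (i + 1))⁻¹
            = xb * (xb ^ i * k * (xb ^ i)⁻¹) * xb⁻¹ := by rw [pow_succ']; group
          _ = (xb * k * xb⁻¹) * (xb * (a : H ⧸ N) ^ i * xb⁻¹) := by rw [ih]; group
          _ = k * (a : H ⧸ N) ^ (i + 1) := by rw [e, hai, pow_succ', mul_assoc]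
    have hap : a ^ p = 1 := by
      have h := hpow p
      rw [hxbp, one_mul, inv_one, mul_one] at h
      exact Subtype.ext (by simpa using h.symm)
    have ha1 : a = 1 := by
      rw [← orderOf_eq_one_iff]
      exact Nat.eq_one_of_dvd_coprimes (hp.coprime_iff_not_dvd.mpr hpKb)
        (orderOf_dvd_of_pow_eq_one hap) (orderOf_dvd_natCard a)
    rw [ha1, Subgroup.coe_one, mul_one, mul_inv_eq_iff_eq_mul] at hai
    exact hai.symm
  -- lift to an element centralising `x`
  intro k hk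
  have hfix : ∀ a ∈ zpowers x, k⁻¹ * (a * k * a⁻¹) ∈ C₀ := by
    intro a ha
    obtain ⟨n, rfl⟩ := mem_zpowers_iff.mp ha
    have hcm : Commute (f ⟨k, hKH hk⟩) (xb ^ n) :=
      (hcent (⟨f ⟨k, hKH hk⟩, ⟨k, hKH hk⟩, mem_subgroupOf.mpr hk, rfl⟩ : Kb)).zpow_right n
    have e : f (⟨k, hKH hk⟩⁻¹ * ((⟨x, hxH⟩ : H) ^ n * ⟨k, hKH hk⟩ * ((⟨x, hxH⟩ : H) ^ n)⁻¹)) = 1 := by
      rw [map_mul, map_mul, map_mul, map_inv, map_inv, map_zpow, ← hxb, ← hcm.eq,
        mul_inv_cancel_right, inv_mul_cancel]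
    have hmem := mem_subgroupOf.mp ((QuotientGroup.eq_one_iff _).mp e)
    simpa using hmem
  have hcop : (Nat.card (zpowers x)).Coprime (Nat.card K) := by
    rw [Nat.card_zpowers, hxp]
    exact hp.coprime_iff_not_dvd.mpr hpK
  obtain ⟨d, ⟨hdK, hdx⟩, hkd⟩ := Coprime.exists_centralizer_mem_coset (A := zpowers x) (K := K)
    (zpowers_le.mpr (hKn hxH)) hcop (Or.inl (Coprime.isSolvable_zpowers x)) hC₀K
    (zpowers_le.mpr (hC₀n hxH)) hk hfix
  have hdS := mem_ptStab.mp hdK.1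
  have hdz : d • z = z := fix_of_commute_exact hS hz hcz hxz honly hdS.1 hdS.2
    (show Commute d x from (mem_centralizer_iff.mp hdx x (mem_zpowers x)).symm)
  refine ⟨k * d⁻¹, ?_, d, ⟨mem_pair.mpr ⟨hdS.1, hdS.2, hdz⟩, hdK.2⟩, by group⟩
  have h' : k * (k⁻¹ * d) * k⁻¹ ∈ C₀ :=
    (Subgroup.mem_normalizer_iff.mp (hC₀n (hKH hk)) _).mp hkd
  have e : k * d⁻¹ = (k * (k⁻¹ * d) * k⁻¹)⁻¹ := by group
  exact e ▸ inv_mem h'

/-- The part of `C_H(invGen)` in a pair stabiliser has order prime to `C_H(R)`. -/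
theorem coprime_pairInv_centStab (hS : SE S C) (h2 : RankTwo S) (hF : Faithful S C) (hG : Good S C)
    (hIH : CoreBelow S Ω) {c z : Ω} (hc : c ∈ C) (hz : z ∈ C) (hcz : c ≠ z) {R : Subgroup G}
    (hR : R ≤ ptStab S c) (hRodd : Odd (Nat.card R)) (hRn : ptStab S c ≤ normalizer (R : Set G))
    (hR1 : R ≠ ⊥) (hRab : IsMulCommutative R) {p : ℕ} [Fact p.Prime] (hdvd : p ∣ invBar S C c) :
    (Nat.card (pair S c z ⊓ centralizer (invGen S c : Set G) : Subgroup G)).Coprime
      (Nat.card (centStab S c R)) := by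
  refine Nat.coprime_of_dvd fun q hq hqD hqC => ?_
  haveI := Fact.mk hq
  set C₀ := centStab S c R with hC₀
  obtain ⟨x, hxp, hxH, hxz, honly, -, -⟩ :=
    exists_fpf_element hS h2 hF hG hIH hc hz hcz hR hRodd hRn hR1 hRab hdvd
  have hnil := isNilpotent_centStab hS h2 hF hG hIH hc hz hcz hR hRodd hRn hR1 (Fact.out : p.Prime)
    hxp hxH hxz honly
  obtain ⟨⟨y, hy⟩, hyq⟩ := exists_prime_orderOf_dvd_card' q hqD
  rw [Subgroup.orderOf_mk] at hyq
  have hyodd : Odd q := by
    rw [← hyq, ← Subgroup.orderOf_mk y hy.1]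
    exact (hS.odd_pair hc hz hcz).of_dvd_nat (orderOf_dvd_natCard _)
  -- the centre of `O_q(C_H(R))`
  haveI := hnil
  obtain ⟨P⟩ : Nonempty (Sylow q C₀) := inferInstance
  haveI : (P : Subgroup C₀).Normal :=
    ((Group.isNilpotent_of_finite_tfae (G := C₀)).out 0 3 rfl rfl).1 hnil q inferInstance P
  set Z : Subgroup C₀ := (center (P : Subgroup C₀)).map (P : Subgroup C₀).subtype with hZ
  set R₁ : Subgroup G := Z.map C₀.subtype with hR₁
  haveI : (P : Subgroup C₀).Characteristic := P.characteristic_of_normal inferInstance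
  haveI : Z.Characteristic := by rw [hZ]; infer_instance
  have hR₁C : R₁ ≤ C₀ := map_subtype_le _
  have hR₁H : R₁ ≤ ptStab S c := hR₁C.trans inf_le_left
  have hR₁n : ptStab S c ≤ normalizer (R₁ : Set G) :=
    fun g hg => Cores.SE.mem_normalizer_map_characteristic Z (ptStab_le_normalizer_centStab hRn hg)
  have hPne : (P : Subgroup C₀) ≠ ⊥ := P.ne_bot_of_dvd_card hqC
  have hR₁q : IsPGroup q R₁ := ((P.2.to_subgroup _).map _).map _
  have hR₁1 : R₁ ≠ ⊥ := by
    haveI : Nontrivial (P : Subgroup C₀) := (Subgroup.nontrivial_iff_ne_bot _).mpr hPne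
    haveI := P.2.center_nontrivial
    intro h
    rw [hR₁, Subgroup.map_eq_bot_iff_of_injective _ C₀.subtype_injective, hZ,
      Subgroup.map_eq_bot_iff_of_injective _ (P : Subgroup C₀).subtype_injective] at h
    exact ((Subgroup.nontrivial_iff_ne_bot _).mp inferInstance) h
  have hR₁ab : IsMulCommutative R₁ := by
    refine ⟨⟨fun a b => Subtype.ext ?_⟩⟩
    obtain ⟨_, ⟨a', ha', rfl⟩, ha⟩ := a.2
    obtain ⟨_, ⟨b', hb', rfl⟩, hb⟩ := b.2
    show (a : G) * b = b * a
    rw [← ha, ← hb]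
    exact congrArg (fun e : (P : Subgroup C₀) => ((e : C₀) : G)) (mem_center_iff.mp hb' a')
  have hR₁odd : Odd (Nat.card R₁) := H29.Bender.odd_card_of_isPGroup hR₁q hyodd
  -- `y` fixes a non-trivial element of it
  have hyH : y ∈ ptStab S c := mem_ptStab.mpr ⟨(mem_pair.mp hy.1).1, (mem_pair.mp hy.1).2.1⟩
  have hyN : zpowers y ≤ normalizer (R₁ : Set G) := zpowers_le.mpr (hR₁n hyH)
  let φ : zpowers y →* MulAut R₁ := (Subgroup.normalizerMonoidHom R₁).comp (Subgroup.inclusion hyN)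
  have hpg : IsPGroup q φ.range := by
    have h : IsPGroup q (zpowers y) :=
      IsPGroup.of_card (n := 1) (by rw [Nat.card_zpowers, hyq, pow_one])
    exact h.of_surjective φ.rangeRestrict φ.rangeRestrict_surjective
  have hqR : q ∣ Nat.card R₁ := by
    obtain ⟨n, hn⟩ := IsPGroup.iff_card.mp hR₁q
    rw [hn]
    exact dvd_pow_self q fun e => hR₁1 (Subgroup.eq_bot_of_card_eq _ (by rw [hn, e, pow_zero]))
  obtain ⟨a, hafix, ha1⟩ := hpg.exists_fixed_point_of_prime_dvd_card_of_fixed_point R₁ hqR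
    (a := 1) (fun m => map_one (m : MulAut R₁))
  have hya : Commute y (a : G) := by
    have e : y * (a : G) * y⁻¹ = a :=
      congrArg Subtype.val (hafix ⟨φ ⟨y, mem_zpowers y⟩, ⟨⟨y, mem_zpowers y⟩, rfl⟩⟩)
    exact mul_inv_eq_iff_eq_mul.mp e
  -- so it centralises at most one involution
  obtain ⟨t, ht, ht2, htc⟩ := hS.exists_inv_at hc
  obtain ⟨s, hs, hs2, hts, hcts⟩ := hS.exists_commute_inv h2 ht ht2
  have hsc : s • c = c := hS.fix_of_commute hs ht ht2 hcts.symm hc htc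
  have hcy : ∀ i ∈ S, orderOf i = 2 → i • c = c → Commute y i := fun i hi hi2 hic =>
    (mem_centralizer_iff.mp hy.2 i (subset_closure ⟨hi, hi2, hic⟩)).symm
  exact hts (inv_unique_of_fixed hS h2 hF hG hIH hc hz hcz.symm hR₁H hR₁odd hR₁n hR₁ab hy.1
    (hyq ▸ hq) a.2 (fun e => ha1 (Subtype.ext e).symm) hya ht ht2 htc (hcy t ht ht2 htc) hs hs2 hsc
    (hcy s hs hs2 hsc))

end Cfsg.Agent.H35.Bender
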