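import Cfsg.Agent.H62.Bender.Lambda.Statement
import Cfsg.Agent.H35.Bender.CoverInv
import Cfsg.Agent.H35.Bender.CentralLine
import Cfsg.Agent.H53.SE.PairSylow

/-!
`H1` from LAMBDA: the centraliser `L₀` of the involutions at `c` in a pair stabiliser is trivial on
the line of its normaliser, where LAMBDA applies, and `H = C_H(invGen) N(L₀)`.
-/

set_option autoImplicit false
set_option linter.style.haveILetI false
set_option maxHeartbeats 800000

namespace Cfsg.Agent.H35.Bender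

open Subgroup MulAction
open scoped commutatorElement
open Cfsg.Agent.H39
open Cfsg.Agent.H73.Bender
open Cfsg.Agent.H53.SE
open Cfsg.Agent.Cores.SE
open Cfsg.Agent.H62.Bender

universe u

variable {G : Type u} [Group G] [Finite G] {Ω : Type u} [MulAction G Ω] [Finite Ω]
  {S : Subgroup G} {C : Set Ω}

omit [Finite G] in
/-- An element of odd order whose square is `1` is `1`. -/
theorem eq_one_of_sq {g : G} (hodd : Odd (orderOf g)) (h : g * g = 1) : g = 1 := by
  by_contra hne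
  rw [orderOf_eq_two_of_mul_self h hne] at hodd
  exact absurd hodd (by decide)

/-- The centraliser of a swapper in the pair stabiliser has order prime to the number of involutions
at a point. -/
theorem coprime_pairCent (hS : SE S C) (h2 : RankTwo S) (hF : Faithful S C) (hG : Good S C)
    (hIH : CoreBelow S Ω) {c z : Ω} (hc : c ∈ C) (hz : z ∈ C) (hcz : c ≠ z) {R : Subgroup G}
    (hR : R ≤ ptStab S c) (hRodd : Odd (Nat.card R)) (hRn : ptStab S c ≤ normalizer (R : Set G))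
    (hR1 : R ≠ ⊥) (hRab : IsMulCommutative R) {w : G} (hw : w ∈ S) (hw2 : orderOf w = 2)
    (hwc : w • c = z) :
    (Nat.card (pair S c z ⊓ centralizer ({w} : Set G) : Subgroup G)).Coprime (invBar S C c) := by
  refine Nat.coprime_of_dvd fun q hq hqF hqm => ?_
  haveI := Fact.mk hq
  obtain ⟨⟨y, hy⟩, hyq⟩ := exists_prime_orderOf_dvd_card' q hqF
  rw [Subgroup.orderOf_mk] at hyq
  have hyw : Commute w y := (mem_centralizer_singleton_iff.mp hy.2).symm
  have hwz : w • z = c := swap_symm hw2 hwc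
  have hwD : w ∈ normalizer (pair S c z : Set G) := by
    refine Coprime.mem_normalizer_of_map_conj ?_
    rw [map_conj_pair hw, hwc, hwz]
    ext g
    simp only [mem_pair]
    tauto
  have hodd : Odd (Nat.card (pair S c z)) := hS.odd_pair hc hz hcz
  obtain ⟨P, hyP, hwP⟩ := Coprime.exists_invariant_sylow_ge (A := zpowers w) (K := pair S c z)
    (zpowers_le.mpr hwD) (by rw [Nat.card_zpowers, hw2]; exact hodd.coprime_two_left)
    (Or.inl (Coprime.isSolvable_zpowers w)) q (U := zpowers y) (zpowers_le.mpr hy.1)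
    (IsPGroup.of_card (n := 1) (by rw [Nat.card_zpowers, hyq, pow_one]))
    (zpowers_le.mpr (Subgroup.centralizer_le_normalizer _ (mem_centralizer_iff.mpr fun k hk => by
      obtain ⟨i, rfl⟩ := mem_zpowers_iff.mp hk
      exact (hyw.zpow_right i).eq.symm)))
  obtain ⟨-, -, -, hinv, -, -⟩ := pairSylow_struct hS h2 hF hG hIH hc hz hcz hR hRodd hRn hR1 hRab
    hqm (H29.Bender.sylow_map P)
  have h1 := hinv w hw hw2 hwc (hwP (mem_zpowers w)) y (hyP (mem_zpowers y))
  rw [hyw.eq, mul_inv_cancel_right] at h1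
  have hy1 : y = 1 := eq_one_of_sq (by
    rw [← Subgroup.orderOf_mk y hy.1]; exact hodd.of_dvd_nat (orderOf_dvd_natCard _))
    (by nth_rewrite 2 [h1]; exact mul_inv_cancel y)
  exact hq.ne_one (by rw [← hyq, hy1, orderOf_one])

/-- `H1` from LAMBDA, the odd core theorem being known below the order of `S`. -/
theorem twoCentral_of_lambda (hlam : Lambda.Targets.LambdaThm.{u})
    (hall : Lambda.CoreAll.{u} (Nat.card S)) (hS : SE S C) (h2 : RankTwo S) (hF : Faithful S C)
    (hG : Good S C) (hIH : CoreBelow S Ω) {c : Ω} (hc : c ∈ C) {R : Subgroup G}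
    (hR : R ≤ ptStab S c) (hRodd : Odd (Nat.card R)) (hRn : ptStab S c ≤ normalizer (R : Set G))
    (hR1 : R ≠ ⊥) (hRab : IsMulCommutative R)
    (hmin : ∀ R' : Subgroup G, R' ≤ R → ptStab S c ≤ normalizer (R' : Set G) → R' ≠ ⊥ → R' = R) :
    Lambda.TwoCentral S c := by
  classical
  -- a second point, its swapper, a prime
  obtain ⟨b, hb, hcb⟩ : ∃ b ∈ C, c ≠ b := by
    obtain ⟨a, ha, b, hb, hab⟩ := hS.exists_ne
    by_cases h : c = a
    · exact ⟨b, hb, h ▸ hab⟩
    · exact ⟨a, ha, h⟩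
  obtain ⟨w, hw, hw2, hwc⟩ := hS.exists_swap hc hb hcb
  obtain ⟨t₀, ht₀, ht₀2, ht₀c⟩ := hS.exists_inv_at hc
  obtain ⟨s₀, hs₀, hs₀2, hts, hcts⟩ := hS.exists_commute_inv h2 ht₀ ht₀2
  have hs₀c : s₀ • c = c := hS.fix_of_commute hs₀ ht₀ ht₀2 hcts.symm hc ht₀c
  have hm1 : invBar S C c ≠ 1 := by
    rw [invBar_eq_card hF]
    haveI : Nontrivial {t : G // t ∈ S ∧ orderOf t = 2 ∧ t • c = c} :=
      ⟨⟨t₀, ht₀, ht₀2, ht₀c⟩, ⟨s₀, hs₀, hs₀2, hs₀c⟩, fun e => hts (congrArg Subtype.val e)⟩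
    exact Finite.one_lt_card.ne'
  obtain ⟨p, hp, hdvd⟩ := Nat.exists_prime_and_dvd hm1
  haveI := Fact.mk hp
  have hcommAt : CommAt S c := fun s hs t ht hs2 ht2 hsc htc =>
    commute_involutions hS h2 hF hG hc hR hRodd hRn hR1 hs ht hs2 ht2 hsc htc
  set L : Subgroup G := pair S c b ⊓ centralizer (invGen S c : Set G) with hLdef
  set K : Subgroup G := ptStab S c ⊓ centralizer (invGen S c : Set G) with hKdef
  have hLS : L ≤ S := fun g hg => (mem_pair.mp hg.1).1
  have hLodd : Odd (Nat.card L) :=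
    (hS.odd_pair hc hb hcb).of_dvd_nat (card_dvd_of_le inf_le_left)
  have hLK : L ≤ K := fun g hg =>
    ⟨mem_ptStab.mpr ⟨(mem_pair.mp hg.1).1, (mem_pair.mp hg.1).2.1⟩, hg.2⟩
  have hLt : ∀ x ∈ L, ∀ t ∈ S, orderOf t = 2 → t • c = c → Commute x t := fun x hx t ht ht2 htc =>
    (mem_centralizer_iff.mp hx.2 t (subset_closure ⟨ht, ht2, htc⟩)).symm
  have hLw : ∀ x ∈ L, Commute x w := fun x hx =>
    commute_swapper_of_centralizing hS hF hG hc hb hcb hx hw hw2 hwc
  -- the line of `N(L)`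
  set T : Subgroup G := S ⊓ normalizer (L : Set G) with hTdef
  have hnorm : ∀ s : G, (∀ x ∈ L, Commute s x) → s ∈ normalizer (L : Set G) := fun s hs =>
    Subgroup.centralizer_le_normalizer _ (mem_centralizer_iff.mpr fun x hx => (hs x hx).symm.eq)
  have hZT : ∀ t ∈ S, orderOf t = 2 → t • c = c → t ∈ T := fun t ht ht2 htc =>
    ⟨ht, hnorm t fun x hx => (hLt x hx t ht ht2 htc).symm⟩
  have hwT : w ∈ T := ⟨hw, hnorm w fun x hx => (hLw x hx).symm⟩
  have hTS : T ≤ S := inf_le_left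
  have hDT : pair S c b ≤ T := fun d hd => ⟨(mem_pair.mp hd).1, by
    have h1 : d ∈ normalizer (pair S c b : Set G) := Subgroup.le_normalizer hd
    have h2' : d ∈ normalizer (K : Set G) :=
      ptStab_le_normalizer_centInv c (mem_ptStab.mpr ⟨(mem_pair.mp hd).1, (mem_pair.mp hd).2.1⟩)
    have heq : L = pair S c b ⊓ K := le_antisymm (le_inf inf_le_left hLK)
      fun g hg => ⟨hg.1, hg.2.2⟩
    refine Subgroup.mem_normalizer_iff.mpr fun g => ?_
    rw [heq]
    exact and_congr (Subgroup.mem_normalizer_iff.mp h1 g) (Subgroup.mem_normalizer_iff.mp h2' g)⟩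
  set C' := points T C with hC'
  have hcC' : c ∈ C' := ⟨hc, t₀, hZT t₀ ht₀ ht₀2 ht₀c, ht₀2, ht₀c⟩
  have hbC' : b ∈ C' := hwc ▸ smul_mem_points hS hTS hw (Subgroup.le_normalizer hwT) hcC'
  have hline : SE T C' := hS.line hTS hcC' hbC' hcb
  have hrT : RankTwo T := ⟨t₀, hZT t₀ ht₀ ht₀2 ht₀c, s₀, hZT s₀ hs₀ hs₀2 hs₀c, ht₀2, hs₀2, hts, hcts⟩
  set K₁ := kernel T C' with hK₁
  have hK₁pair : K₁ ≤ pair S c b := fun g hg => by
    obtain ⟨hgT, hgC⟩ := mem_kernel.mp hg
    exact mem_pair.mpr ⟨hTS hgT, hgC c hcC', hgC b hbC'⟩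
  have hLK₁ : L ≤ K₁ :=
    hline.le_kernel_of_odd hrT (le_inf hLS Subgroup.le_normalizer) hLodd inf_le_right
  have hK₁L : K₁ ≤ L := fun g hg => ⟨hK₁pair hg, mem_centralizer_iff.mpr fun e he => by
    have hle : invGen S c ≤ centralizer ({g} : Set G) :=
      (closure_le _).mpr fun t ⟨ht, ht2, htc⟩ => mem_centralizer_singleton_iff.mpr
        (commute_of_fix_point hF hG (X := K₁) (fun k hk => (mem_pair.mp (hK₁pair hk)).1) ht ht2
          (le_normalizer_kernel hline (hZT t ht ht2 htc)) hc hb hcb htc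
          (fun k hk => (mem_pair.mp (hK₁pair hk)).2.1) (fun k hk => (mem_pair.mp (hK₁pair hk)).2.2)
          hg).eq
    exact mem_centralizer_singleton_iff.mp (hle he)⟩
  -- an element acting on the involutions at `c` within the kernel centralises them
  have hmodK : ∀ g ∈ S, g • c = c → ∀ t ∈ S, orderOf t = 2 → t • c = c → ⁅g, t⁆ ∈ K₁ →
      Commute g t := by
    intro g hg hgc t ht ht2 htc hgt
    rw [← commutatorElement_eq_one_iff_commute]
    have ht' : Commute (g * t * g⁻¹) t := hcommAt _ (conj_mem_of_mem hg ht) _ ht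
      (by rw [orderOf_conj, ht2]) ht2 (by have h := conj_smul_of_smul (g := g) htc; rwa [hgc] at h)
      htc
    have htt := mul_self_of_orderOf_eq_two ht2
    refine eq_one_of_sq (by
      rw [← Subgroup.orderOf_mk _ hgt]; exact hline.odd_kernel.of_dvd_nat (orderOf_dvd_natCard _)) ?_
    rw [commutatorElement_def, inv_eq_of_orderOf_eq_two ht2, ← mul_assoc,
      mul_assoc (g * t * g⁻¹) t, ← ht'.eq, ← mul_assoc, mul_assoc _ t t, htt, mul_one]
    calc g * t * g⁻¹ * (g * t * g⁻¹) = g * (t * t) * g⁻¹ := by group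
      _ = 1 := by rw [htt, mul_one, mul_inv_cancel]
  -- LAMBDA in the image
  let π := cPerm hline
  have hπ1 : ∀ g : T, π g = 1 ↔ (g : G) ∈ K₁ := cPerm_eq_one_iff hline
  set I := Image hline with hI
  set c' : C' := ⟨c, hcC'⟩ with hc'
  set b' : C' := ⟨b, hbC'⟩ with hb'
  set w' : Equiv.Perm C' := π ⟨w, hwT⟩ with hw'
  have hIinv : ∀ i ∈ I, orderOf i = 2 → i • c' = c' → ∃ t : G, ∃ ht : t ∈ T,
      orderOf t = 2 ∧ t • c = c ∧ π ⟨t, ht⟩ = i := by
    intro i hi hi2 hic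
    obtain ⟨t, ht, rfl⟩ := exists_inv_lift hline hi hi2
    exact ⟨t, t.2, (Subgroup.orderOf_coe t).trans ht, congrArg Subtype.val hic, rfl⟩
  have hcommI : CommAt I c' := by
    intro s hs t ht hs2 ht2 hsc htc
    obtain ⟨s', hs'T, hs'2, hs'c, rfl⟩ := hIinv s hs hs2 hsc
    obtain ⟨t', ht'T, ht'2, ht'c, rfl⟩ := hIinv t ht ht2 htc
    exact (show Commute (⟨s', hs'T⟩ : T) ⟨t', ht'T⟩ from
      Subtype.ext (hcommAt s' (hTS hs'T) t' (hTS ht'T) hs'2 ht'2 hs'c ht'c).eq).map π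
  have hpairT : ∀ g : T, π g ∈ pair I c' b' → (g : G) ∈ pair S c b := fun g hg => by
    obtain ⟨-, hgc, hgb⟩ := mem_pair.mp hg
    exact mem_pair.mpr ⟨hTS g.2, congrArg Subtype.val hgc, congrArg Subtype.val hgb⟩
  have hcpI : pair I c' b' ⊓ centralizer (invGen I c' : Set (Equiv.Perm C')) = ⊥ := by
    refine eq_bot_iff.mpr fun i hi => ?_
    obtain ⟨⟨hiI, hic, hib⟩, hiZ⟩ := hi
    obtain ⟨g, rfl⟩ := hiI
    have hg := hpairT g (mem_pair.mpr ⟨⟨g, rfl⟩, hic, hib⟩)
    refine mem_bot.mpr ((hπ1 g).mpr (hLK₁ ⟨hg, mem_centralizer_iff.mpr fun e he => ?_⟩))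
    have hle : invGen S c ≤ centralizer ({(g : G)} : Set G) :=
      (closure_le _).mpr fun t ⟨ht, ht2, htc⟩ => mem_centralizer_singleton_iff.mpr (by
        refine (hmodK g (hTS g.2) (mem_pair.mp hg).2.1 t ht ht2 htc ?_).symm.eq
        have hmem : π ⟨t, hZT t ht ht2 htc⟩ ∈ invGen I c' :=
          subset_closure ⟨⟨_, rfl⟩, orderOf_cPerm_inv hline ((Subgroup.orderOf_mk _ _).trans ht2),
            Subtype.ext htc⟩
        have h1 : π ⁅g, (⟨t, hZT t ht ht2 htc⟩ : T)⁆ = 1 := by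
          rw [map_commutatorElement, commutatorElement_eq_one_iff_mul_comm]
          exact (mem_centralizer_iff.mp hiZ _ hmem).symm
        exact (hπ1 _).mp h1)
    exact mem_centralizer_singleton_iff.mp (hle he)
  have hmI : invBar I (Set.univ : Set C') c' = invBar S C c := by
    rw [invBar_eq_card hF, invBar_eq_card (faithful_image hline)]
    refine (Nat.card_congr (Equiv.ofBijective
      (fun t : {t : G // t ∈ S ∧ orderOf t = 2 ∧ t • c = c} =>
        (⟨π ⟨t.1, hZT t.1 t.2.1 t.2.2.1 t.2.2.2⟩, ⟨_, rfl⟩,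
          orderOf_cPerm_inv hline ((Subgroup.orderOf_mk _ _).trans t.2.2.1), Subtype.ext t.2.2.2⟩ :
          {t : Equiv.Perm C' // t ∈ I ∧ orderOf t = 2 ∧ t • c' = c'})) ⟨?_, ?_⟩)).symm
    · rintro ⟨s, hs, hs2, hsc⟩ ⟨t, ht, ht2, htc⟩ h
      have h' : π ⟨s, hZT s hs hs2 hsc⟩ = π ⟨t, hZT t ht ht2 htc⟩ := congrArg Subtype.val h
      have hk : s * t ∈ K₁ := by
        refine (hπ1 (⟨s, hZT s hs hs2 hsc⟩ * ⟨t, hZT t ht ht2 htc⟩)).mp ?_
        rw [map_mul, h', ← map_mul, ← map_one π]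
        exact congrArg π (Subtype.ext (mul_self_of_orderOf_eq_two ht2))
      have h1 : s * t = 1 := eq_one_of_sq
        (by rw [← Subgroup.orderOf_mk _ hk]; exact hline.odd_kernel.of_dvd_nat (orderOf_dvd_natCard _))
        (by rw [(hcommAt t ht s hs ht2 hs2 htc hsc).mul_mul_mul_comm s t,
          mul_self_of_orderOf_eq_two hs2, mul_self_of_orderOf_eq_two ht2, one_mul])
      refine Subtype.ext ?_
      show s = t
      rw [eq_inv_of_mul_eq_one_left h1, inv_eq_of_orderOf_eq_two ht2]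
    · rintro ⟨i, hi, hi2, hic⟩
      obtain ⟨t, htT, ht2, htc, rfl⟩ := hIinv i hi hi2 hic
      exact ⟨⟨t, hTS htT, ht2, htc⟩, rfl⟩
  have hcop : (Nat.card (pair I c' b' ⊓ centralizer ({w'} : Set _) : Subgroup _)).Coprime
      (invBar I (Set.univ : Set C') c') := by
    rw [hmI]
    set F : Subgroup G := pair S c b ⊓ centralizer ({w} : Set G) with hFdef
    have hFT : F ≤ T := inf_le_left.trans hDT
    refine Nat.Coprime.coprime_dvd_left ?_
      (coprime_pairCent hS h2 hF hG hIH hc hb hcb hR hRodd hRn hR1 hRab hw hw2 hwc)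
    have hle : pair I c' b' ⊓ centralizer ({w'} : Set _) ≤ (F.subgroupOf T).map π := by
      rintro i ⟨hi, hiw⟩
      obtain ⟨g, rfl⟩ := (mem_pair.mp hi).1
      refine ⟨g, mem_subgroupOf.mpr ⟨hpairT g hi, mem_centralizer_singleton_iff.mpr ?_⟩, rfl⟩
      have hk : ⁅(g : G), w⁆ ∈ K₁ := (hπ1 ⁅g, (⟨w, hwT⟩ : T)⁆).mp (by
        rw [map_commutatorElement, commutatorElement_eq_one_iff_mul_comm]
        exact mem_centralizer_singleton_iff.mp hiw)
      have hkw : Commute ⁅(g : G), w⁆ w := hLw _ (hK₁L hk)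
      have hsq : ⁅(g : G), w⁆ * ⁅(g : G), w⁆ = 1 := by
        have e : ⁅(g : G), w⁆ * w = (g : G) * w * (g : G)⁻¹ := by
          rw [commutatorElement_def, inv_eq_of_orderOf_eq_two hw2, mul_assoc _ w w,
            mul_self_of_orderOf_eq_two hw2, mul_one]
        have h3 : ⁅(g : G), w⁆ * w * (⁅(g : G), w⁆ * w) = 1 := by
          rw [e]
          calc (g : G) * w * (g : G)⁻¹ * (g * w * (g : G)⁻¹) = g * (w * w) * (g : G)⁻¹ := by group
            _ = 1 := by rw [mul_self_of_orderOf_eq_two hw2, mul_one, mul_inv_cancel]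
        rwa [hkw.symm.mul_mul_mul_comm, mul_self_of_orderOf_eq_two hw2, mul_one] at h3
      have h1 := eq_one_of_sq (by
        rw [← Subgroup.orderOf_mk _ hk]; exact hline.odd_kernel.of_dvd_nat (orderOf_dvd_natCard _)) hsq
      exact commutatorElement_eq_one_iff_mul_comm.mp h1
    refine (Subgroup.card_dvd_of_le hle).trans ((Subgroup.card_map_dvd _ π).trans ?_)
    rw [Nat.card_congr (subgroupOfEquivOfLe hFT).toEquiv]
  have hHyp : Lambda.Hyp I (Set.univ : Set C') c' b' w' :=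
    { se := se_image hline
      rankTwo := rankTwo_image hline hrT
      faithful := faithful_image hline
      mem_left := Set.mem_univ _
      mem_right := Set.mem_univ _
      ne := fun h => hcb (congrArg Subtype.val h)
      swap_mem := ⟨_, rfl⟩
      swap_inv := orderOf_cPerm_inv hline ((Subgroup.orderOf_mk w hwT).trans hw2)
      swap := Subtype.ext hwc
      comm := hcommI
      pair_cent := hcpI
      coprime := hcop }
  have hcardI : Nat.card I ≤ Nat.card S := by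
    refine le_trans (Nat.le_of_dvd Nat.card_pos ?_) (Subgroup.card_le_of_le hTS)
    exact ⟨Nat.card (kernel T C'), (card_image_mul hline).symm⟩
  have hout := hlam (Equiv.Perm C') C' I Set.univ c' b' w'
    (fun G' _ _ Ω' _ _ T' C'' hlt => hall G' Ω' T' C'' (hlt.trans_le hcardI)) hHyp
  -- the covering
  have hKn : ptStab S c ≤ normalizer (K : Set G) := ptStab_le_normalizer_centInv c
  have hKeq : centStab S c R ⊔ L = K := le_antisymm
    (sup_le (centStab_le_centInv hS h2 hF hG hc hR hRn hR1) hLK) fun k hk => by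
      obtain ⟨a, ha, d, hd, rfl⟩ :=
        exists_centStab_mul_pairInv hS h2 hF hG hIH hc hb hcb hR hRodd hRn hR1 hRab hmin hdvd k hk
      exact mul_mem_sup ha hd
  have hcover := exists_mem_normalizer_of_coprime (H := ptStab S c) (M := centStab S c R) (U := L)
    (hLK.trans (inf_le_left.trans (ptStab_le_normalizer_centStab hRn))) (hKeq.symm ▸ hKn)
    (coprime_pairInv_centStab hS h2 hF hG hIH hc hb hcb hR hRodd hRn hR1 hRab hdvd)
    (Cfsg.Agent.S0205.result hLodd)
  intro v hv hv2 t ht ht2 htc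
  refine commute_of_cover (N := normalizer (L : Set G)) inf_le_left
    (ptStab_le_normalizer_centStab hRn)
    (fun m hm t ht ht2 htc => commute_of_mem_centStab hS h2 hF hG hc hR hRn hR1 ht ht2 htc hm)
    hcover (fun n hn hnN hn2 t ht ht2 htc => ?_) hv hv2 ht ht2 htc
  obtain ⟨hnS, hnc⟩ := mem_ptStab.mp hn
  have hnT : n ∈ T := ⟨hnS, hnN⟩
  obtain ⟨k, hk⟩ := hn2
  have h2' : ∃ i, orderOf (π ⟨n, hnT⟩) = 2 ^ i := by
    have hd : orderOf (π ⟨n, hnT⟩) ∣ 2 ^ k :=
      hk ▸ ((orderOf_map_dvd π (⟨n, hnT⟩ : T)).trans (Subgroup.orderOf_mk n hnT).dvd)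
    obtain ⟨i, -, hi⟩ := (Nat.dvd_prime_pow Nat.prime_two).mp hd
    exact ⟨i, hi⟩
  have h := hout.two_central (π ⟨n, hnT⟩) (mem_ptStab.mpr ⟨⟨_, rfl⟩, Subtype.ext hnc⟩) h2'
    (π ⟨t, hZT t ht ht2 htc⟩) ⟨_, rfl⟩
    (orderOf_cPerm_inv hline ((Subgroup.orderOf_mk _ _).trans ht2)) (Subtype.ext htc)
  refine hmodK n hnS hnc t ht ht2 htc ((hπ1 ⁅(⟨n, hnT⟩ : T), ⟨t, hZT t ht ht2 htc⟩⁆).mp ?_)
  rw [map_commutatorElement, commutatorElement_eq_one_iff_mul_comm]
  exact h.eq

end Cfsg.Agent.H35.Bender
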